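import Cfsg.Agent.Lib.Helper12.TCG.J1x25080.Main

/-! the permutation representation for J1x25080 (generated, helper12) -/

set_option autoImplicit false
set_option maxRecDepth 100000

namespace Cfsg.Agent.Lib.Helper12.TCG.J1x25080

open Cfsg.Agent.Lib.Helper12.TC Cfsg.Agent.Lib.Helper12.TCG Cfsg.Agent.Lib.Helper12.TCG.J1Pres

/-- the subgroup generated by the subgroup words -/
noncomputable def Hs : Subgroup J1Pres.Grp :=
  Subgroup.closure {γ | ∃ w ∈ sw, γ = wprod J1Pres.v w}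

theorem hH : Hs = Subgroup.closure {γ | ∃ w ∈ sw, γ = wprod J1Pres.v w} := rfl

theorem hN0 : 0 < cN := by decide

/-- the permutation representation on the cosets of the subgroup -/
theorem mainRho : ∃ ρ : J1Pres.Grp →* Equiv.Perm (Fin cN),
    (∀ x < 3, ∀ i : Fin cN, ((ρ (J1Pres.v x) i : Fin cN) : ℕ) = TT x i) ∧ Hs.index = cN ∧
    ∃ Φ : J1Pres.Grp ⧸ Hs ≃ Fin cN, ∀ γ : J1Pres.Grp, Φ (γ : J1Pres.Grp ⧸ Hs) = ρ γ ⟨0, hN0⟩ :=
  main_rho J1Pres.v 3 J1Pres.cIV (by decide) J1Pres.hiv J1Pres.hvinv J1Pres.hvge J1Pres.hgen J1Pres.baseL J1Pres.hbase J1Pres.hlet sw Hs hH F RW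
    finrecs TT rotW chunks cD cK cR0 cR cN hdefs hchunks hcover hrelc hperm (fun f => J1Pres.hlift f) hrels hsub
    htrans hfin hlen hN0

/-- the permutation representation -/
noncomputable def rho : J1Pres.Grp →* Equiv.Perm (Fin cN) := mainRho.choose

theorem rho_gen : ∀ x < 3, ∀ i : Fin cN, ((rho (J1Pres.v x) i : Fin cN) : ℕ) = TT x i :=
  mainRho.choose_spec.1

theorem rho_index : Hs.index = cN := mainRho.choose_spec.2.1

theorem rho_equiv : ∃ Φ : J1Pres.Grp ⧸ Hs ≃ Fin cN, ∀ γ : J1Pres.Grp, Φ (γ : J1Pres.Grp ⧸ Hs) = rho γ ⟨0, hN0⟩ :=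
  mainRho.choose_spec.2.2

end Cfsg.Agent.Lib.Helper12.TCG.J1x25080
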